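import Mathlib
import Groth.Prelude.Def_W4bk6serrecg25LocSym
import Groth.Agent.H22Alg.GeomRegularAt
import Groth.Agent.H22Alg.FibreCount
import Groth.Agent.H22Alg.CycDiv
import Groth.Agent.H05EGA4.CompleteNormalization
import Groth.Agent.H23FunFld.Approx

/-!
# Orders at the rational points of a smooth proper curve over an algebraically closed field
-/

set_option autoImplicit false
set_option linter.style.haveILetI false

universe v u

open CategoryTheory AlgebraicGeometry TopologicalSpace WithZero
open LocSym (Pt constFun)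

namespace Groth.Agent.H26LocSym

variable {k : Type u} [Field k] {X : Scheme.{u}} {c : X ⟶ Spec (CommRingCat.of k)}

/-- A curve: smooth, proper, integral, of dimension one over an algebraically closed field. -/
class Curve [IsIntegral X] (c : X ⟶ Spec (CommRingCat.of k)) : Prop where
  proper : IsProper c
  smooth : Smooth c
  dim : topologicalKrullDim X = 1

variable [IsIntegral X] [Curve c]

lemma isLocallyNoetherian (c : X ⟶ Spec (CommRingCat.of k)) [Curve c] : IsLocallyNoetherian X :=
  haveI := Curve.proper (c := c)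
  LocallyOfFiniteType.isLocallyNoetherian c

lemma isClosed_pt [IsAlgClosed k] (x : Pt c) : IsClosed ({x.pt} : Set X) := by
  haveI := Curve.proper (c := c)
  exact ((pointEquivClosedPoint c) ⟨x.1, x.2⟩).2

lemma pt_injective [IsAlgClosed k] : Function.Injective (Pt.pt : Pt c → X) := fun x y h => by
  haveI := Curve.proper (c := c)
  exact Subtype.ext (ext_of_apply_closedPoint_eq c x.2 y.2 h)

lemma exists_pt [IsAlgClosed k] {z : X} (hz : IsClosed ({z} : Set X)) : ∃ x : Pt c, x.pt = z := by
  haveI := Curve.proper (c := c)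
  obtain ⟨⟨p, hp⟩, e⟩ := (pointEquivClosedPoint c).surjective ⟨z, hz⟩
  exact ⟨⟨p, hp⟩, congrArg Subtype.val e⟩

lemma isDVR_stalk [IsAlgClosed k] (x : Pt c) : IsDiscreteValuationRing (X.presheaf.stalk x.pt) := by
  haveI := Curve.proper (c := c)
  haveI := Curve.smooth (c := c)
  haveI := isLocallyNoetherian c
  letI : X.Over (Spec (CommRingCat.of k)) := ⟨c⟩
  haveI : Smooth (X ↘ Spec (CommRingCat.of k)) := ‹Smooth c›
  haveI : LocallyOfFinitePresentation (X ↘ Spec (CommRingCat.of k)) :=
    (inferInstance : LocallyOfFinitePresentation c)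
  have hd : ringKrullDim (X.presheaf.stalk x.pt) = 1 := by
    have h1 := Groth.Agent.H8Props.FieldDim.localDim_eq_stalk_add_cdim (k := k) c x.pt
    rw [(Groth.Agent.H22Alg.FibreCount.isClosed_iff_cdim_eq_zero (k := k) c x.pt).mp (isClosed_pt x), add_zero] at h1
    rw [← h1]
    refine Groth.Agent.H8Props.FieldDim.localDim_eq_of_pure (k := k) c x.pt 1 fun T hT => ?_
    rw [irreducibleComponents_eq_singleton, Set.mem_singleton_iff] at hT
    subst hT
    exact (IsHomeomorph.topologicalKrullDim_eq _ (Homeomorph.Set.univ X).isHomeomorph).trans (Curve.dim (c := c))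
  haveI := Groth.Agent.H22Alg.GeomRegularAt.regular_of_mem_smoothLocus k X x.pt
    (by rw [Scheme.Hom.smoothLocus_eq_top (X ↘ Spec (CommRingCat.of k))]; trivial)
  have hnf : ¬ IsField (X.presheaf.stalk x.pt) := fun hF => by
    rw [ringKrullDim_eq_zero_of_isField hF] at hd
    exact absurd hd (by norm_num)
  haveI : Ring.KrullDimLE 1 (X.presheaf.stalk x.pt) := Ring.krullDimLE_iff.mpr hd.le
  haveI := Groth.Agent.H05EGA4.isIntegrallyClosed_of_isRegularLocalRing (X.presheaf.stalk x.pt)
  refine ((IsDiscreteValuationRing.TFAE _ hnf).out 0 3 rfl rfl).2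
    ⟨inferInstance, IsLocalRing.maximalIdeal _, ⟨?_, inferInstance⟩, fun P hP => ?_⟩
  · exact fun h => hnf (IsLocalRing.isField_iff_maximalIdeal_eq.2 h)
  · haveI := hP.2
    exact IsLocalRing.eq_maximalIdeal (((Ring.krullDimLE_one_iff_of_isPrime_bot).1 ‹_›) P hP.1 hP.2)

variable (c) in
/-- The rational functions as an algebra over the constants. -/
@[reducible] noncomputable def constAlg : Algebra k X.functionField := (constFun c).toAlgebra

/-- A constant is a section near every point. -/
lemma constFun_mem_range (a : k) (z : X) :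
    constFun c a ∈ Set.range (algebraMap (X.presheaf.stalk z) X.functionField) := by
  refine ⟨X.presheaf.germ ⊤ z trivial (c.appTop ((Scheme.ΓSpecIso (CommRingCat.of k)).inv a)), ?_⟩
  show X.presheaf.stalkSpecializes (genericPoint_specializes z) (X.presheaf.germ ⊤ z trivial _) = _
  rw [← CommRingCat.comp_apply, TopCat.Presheaf.germ_stalkSpecializes]
  rfl

variable [IsAlgClosed k]

/-- The valuation at a rational point. -/
noncomputable def placeVal (x : Pt c) : Valuation X.functionField (WithZero (Multiplicative ℤ)) :=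
  haveI := isDVR_stalk x
  (IsDiscreteValuationRing.maximalIdeal (X.presheaf.stalk x.pt)).valuation X.functionField

lemma placeVal_le_one (x : Pt c) (r : X.presheaf.stalk x.pt) :
    placeVal x (algebraMap (X.presheaf.stalk x.pt) X.functionField r) ≤ 1 := by
  haveI := isDVR_stalk x
  exact IsDedekindDomain.HeightOneSpectrum.valuation_le_one _ r

lemma placeVal_surjective (x : Pt c) : Function.Surjective (placeVal x) := by
  haveI := isDVR_stalk x
  intro g
  induction g using WithZero.expRecOn with
  | zero => exact ⟨0, map_zero _⟩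
  | exp n =>
    obtain ⟨π, hπ⟩ := (IsDiscreteValuationRing.maximalIdeal (X.presheaf.stalk x.pt)).valuation_exists_uniformizer
      X.functionField
    refine ⟨π ^ (-n), ?_⟩
    rw [map_zpow₀, placeVal, hπ, ← exp_zsmul]
    simp

variable (c) in
/-- The place at a rational point. -/
noncomputable def place (x : Pt c) : letI := constAlg c; FunFld.Place k X.functionField :=
  letI := constAlg c
  ⟨placeVal x, fun a => by
    obtain ⟨r, hr⟩ := constFun_mem_range (c := c) a x.pt
    show placeVal x (constFun c a) ≤ 1
    rw [← hr]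
    exact placeVal_le_one x r, placeVal_surjective x⟩

/-- The order is the additive valuation. -/
lemma placeVal_eq (x : Pt c) {g : X.functionField} (hg : g ≠ 0) : placeVal x g = exp (-x.ord g) := by
  haveI := isDVR_stalk x
  set O := X.presheaf.stalk x.pt
  obtain ⟨a, b, hb, rfl⟩ := IsFractionRing.div_surjective O g
  have ha : a ≠ 0 := by rintro rfl; simp at hg
  have hb0 : b ≠ 0 := nonZeroDivisors.ne_zero hb
  obtain ⟨π, hπ⟩ := IsDiscreteValuationRing.exists_irreducible O
  obtain ⟨na, ua, rfl⟩ := IsDiscreteValuationRing.eq_unit_mul_pow_irreducible ha hπ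
  obtain ⟨nb, ub, rfl⟩ := IsDiscreteValuationRing.eq_unit_mul_pow_irreducible hb0 hπ
  have hπ0 : π ∈ nonZeroDivisors O := mem_nonZeroDivisors_iff_ne_zero.2 hπ.ne_zero
  have hord : ∀ (u : Oˣ) (n : ℕ), ((Ring.ord O ((u : O) * π ^ n)).toNat : ℤ) = n := fun u n => by
    rw [Ring.ord_mul_of_isUnit_left u.isUnit, Ring.ord_pow hπ0, Ring.ord_of_irreducible hπ]
    simp
  have hv : ∀ (u : Oˣ) (n : ℕ),
      placeVal x (algebraMap O X.functionField ((u : O) * π ^ n)) = exp (-(n : ℤ)) := fun u n => by
    have h1 : (IsDiscreteValuationRing.maximalIdeal O).intValuation (u : O) = 1 :=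
      (IsDiscreteValuationRing.maximalIdeal O).intValuation_eq_one_iff.2
        (fun h => (IsLocalRing.mem_maximalIdeal _).1 h u.isUnit)
    rw [placeVal, IsDedekindDomain.HeightOneSpectrum.valuation_of_algebraMap, map_mul, map_pow, h1, one_mul,
      IsDedekindDomain.HeightOneSpectrum.intValuation_singleton _ hπ.ne_zero hπ.maximalIdeal_eq, ← exp_nsmul]
    simp
  unfold Pt.ord
  rw [Groth.Agent.H22Alg.cycOrdFrac_div X.functionField (mem_nonZeroDivisors_iff_ne_zero.2 ha) hb, hord, hord,
    map_div₀, hv, hv, ← exp_sub]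
  ring_nf

lemma ord_eq (x : Pt c) (g : X.functionField) : x.ord g = -WithZero.log (placeVal x g) := by
  rcases eq_or_ne g 0 with rfl | hg
  · simp only [Pt.ord, CycAlg.ordFrac, map_zero, WithZero.log_zero, neg_zero]
    split_ifs <;> rfl
  · rw [placeVal_eq x hg, log_exp, neg_neg]

lemma ord_zero (x : Pt c) : x.ord (0 : X.functionField) = 0 := by simp [ord_eq]

lemma ord_one (x : Pt c) : x.ord (1 : X.functionField) = 0 := by simp [ord_eq]

lemma ord_mul (x : Pt c) {g h : X.functionField} (hg : g ≠ 0) (hh : h ≠ 0) :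
    x.ord (g * h) = x.ord g + x.ord h := by
  rw [ord_eq, ord_eq, ord_eq, map_mul,
    log_mul ((Valuation.ne_zero_iff _).2 hg) ((Valuation.ne_zero_iff _).2 hh)]
  ring

lemma ord_inv (x : Pt c) (g : X.functionField) : x.ord g⁻¹ = -x.ord g := by
  rw [ord_eq, ord_eq, map_inv₀, log_inv]

lemma ord_neg (x : Pt c) (g : X.functionField) : x.ord (-g) = x.ord g := by
  rw [ord_eq, ord_eq, Valuation.map_neg]

lemma ord_div (x : Pt c) {g h : X.functionField} (hg : g ≠ 0) (hh : h ≠ 0) :
    x.ord (g / h) = x.ord g - x.ord h := by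
  rw [div_eq_mul_inv, ord_mul x hg (inv_ne_zero hh), ord_inv]; ring

/-- A lower bound on the order, as a bound on the valuation. -/
lemma le_ord_iff (x : Pt c) {g : X.functionField} (hg : g ≠ 0) (N : ℤ) :
    N ≤ x.ord g ↔ placeVal x g ≤ exp (-N) := by
  rw [placeVal_eq x hg, exp_le_exp]; omega

lemma ord_add_of_lt (x : Pt c) {g h : X.functionField} (hg : g ≠ 0) (hh : h ≠ 0) (hlt : x.ord g < x.ord h) :
    g + h ≠ 0 ∧ x.ord (g + h) = x.ord g := by
  have h1 : placeVal x (g + h) = placeVal x g :=
    (placeVal x).map_add_eq_of_lt_left (by rw [placeVal_eq x hg, placeVal_eq x hh, exp_lt_exp]; omega)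
  refine ⟨(Valuation.ne_zero_iff (placeVal x)).1 (h1 ▸ (Valuation.ne_zero_iff _).2 hg), ?_⟩
  rw [ord_eq, ord_eq, h1]

lemma ord_const (x : Pt c) (a : k) : x.ord (constFun c a) = 0 := by
  rcases eq_or_ne a 0 with rfl | ha
  · rw [map_zero, ord_zero]
  · letI := constAlg c
    rw [ord_eq]
    show -WithZero.log ((place c x).1 (algebraMap k X.functionField a)) = 0
    rw [Groth.Agent.H23FunFld.val_const _ ha, log_one, neg_zero]

/-- Every closed set avoiding the generic point is finite. -/
lemma finite_of_genericPoint_notMem (c : X ⟶ Spec (CommRingCat.of k)) [Curve c] {Z : Set X} (hZ : IsClosed Z)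
    (hη : genericPoint X ∉ Z) : Z.Finite := by
  haveI := Curve.proper (c := c)
  haveI := isLocallyNoetherian c
  haveI : CompactSpace X := QuasiCompact.compactSpace_of_compactSpace c
  haveI : IsNoetherian X := {}
  obtain ⟨S, hSf, hSc, hSi, hSe⟩ := NoetherianSpace.exists_finite_set_isClosed_irreducible hZ
  rw [hSe]
  refine hSf.sUnion fun s hs => ?_
  have hg := (hSi s hs).isGenericPoint_genericPoint (hSc s hs)
  refine (Set.finite_singleton (hSi s hs).genericPoint).subset fun w hw => ?_
  by_contra hne
  have h0 := hg.specializes hw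
  have hη0 : genericPoint X ≠ (hSi s hs).genericPoint := fun e => hη (hSe ▸ ⟨s, hs, e ▸ hg.mem⟩)
  have hd := Curve.dim (c := c)
  rw [Groth.Agent.H17.topologicalKrullDim_eq_krullDim_specialization] at hd
  have l1 : w < (hSi s hs).genericPoint := lt_iff_le_not_ge.2 ⟨h0, fun h' => hne (Specializes.antisymm (show w ⤳ (hSi s hs).genericPoint from h') h0).eq⟩
  have l2 : (hSi s hs).genericPoint < genericPoint X := lt_iff_le_not_ge.2 ⟨genericPoint_specializes _, fun h' => hη0 (Specializes.antisymm (genericPoint_specializes _) h').eq⟩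
  let p : LTSeries X := ((RelSeries.singleton _ w).snoc _ (show (RelSeries.singleton _ w).last < _ by simpa using l1)).snoc
    (genericPoint X) (by simpa [RelSeries.last_snoc] using l2)
  have := Order.LTSeries.length_le_krullDim p
  rw [hd] at this
  simp [p] at this

lemma finite_ord_ne_zero (g : X.functionField) : {x : Pt c | x.ord g ≠ 0}.Finite := by
  rcases eq_or_ne g 0 with rfl | hg
  · simp [ord_zero]
  haveI := Curve.proper (c := c)
  obtain ⟨_, ⟨U, hU, rfl⟩, hηU, -⟩ := X.isBasis_affineOpens.exists_subset_of_mem_open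
    (Set.mem_univ (genericPoint X)) isOpen_univ
  haveI : Nonempty U := ⟨⟨_, hηU⟩⟩
  haveI := functionField_isFractionRing_of_isAffineOpen X U hU
  obtain ⟨a, b, hb, hab⟩ := IsFractionRing.div_surjective Γ(X, U) g
  have ha : a ≠ 0 := by rintro rfl; rw [map_zero, zero_div] at hab; exact hg hab.symm
  let W : X.Opens := X.basicOpen a ⊓ X.basicOpen b
  have hηW : genericPoint X ∈ W := by
    have hne : ∀ r : Γ(X, U), r ≠ 0 → genericPoint X ∈ X.basicOpen r := fun r hr =>
      ((genericPoint_spec X).mem_open_set_iff (X.basicOpen r).isOpen).2 (by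
        rw [Set.univ_inter, Set.nonempty_iff_ne_empty, ne_eq, Opens.coe_eq_empty, basicOpen_eq_bot_iff]
        exact hr)
    exact ⟨hne a ha, hne b (nonZeroDivisors.ne_zero hb)⟩
  refine ((finite_of_genericPoint_notMem c W.2.isClosed_compl (fun h => h hηW)).preimage
    pt_injective.injOn).subset fun x hx hxW => hx ?_
  have hxU : x.pt ∈ U := X.basicOpen_le a hxW.1
  have halg : ∀ r, algebraMap Γ(X, U) X.functionField r =
      algebraMap (X.presheaf.stalk x.pt) X.functionField (X.presheaf.germ U x.pt hxU r) := fun r => by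
    show _ = X.presheaf.stalkSpecializes (genericPoint_specializes x.pt) (X.presheaf.germ U x.pt hxU r)
    rw [← CommRingCat.comp_apply, TopCat.Presheaf.germ_stalkSpecializes]
    rfl
  have hua : IsUnit (X.presheaf.germ U x.pt hxU a) := (X.mem_basicOpen a x.pt hxU).1 hxW.1
  have hub : IsUnit (X.presheaf.germ U x.pt hxU b) := (X.mem_basicOpen b x.pt hxU).1 hxW.2
  rw [← hab, halg, halg]
  exact Groth.Agent.H22Alg.CycDiv.ordFrac_eq_zero_of_isUnit hua hub

lemma place_injective : letI := constAlg c; Function.Injective (place c) := by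
  letI := constAlg c
  intro x y h
  haveI := Curve.proper (c := c)
  haveI := isDVR_stalk x
  haveI := isDVR_stalk y
  haveI : X.IsSeparated := ⟨by
    rw [← Limits.terminal.comp_from c]
    infer_instance⟩
  have hv : placeVal x = placeVal y := congrArg Subtype.val h
  have hr : Set.range (algebraMap (X.presheaf.stalk x.pt) X.functionField) =
      Set.range (algebraMap (X.presheaf.stalk y.pt) X.functionField) := by
    refine Set.ext fun g => ⟨?_, ?_⟩
    · rintro ⟨r, rfl⟩
      exact IsDiscreteValuationRing.exists_lift_of_le_one (hv ▸ placeVal_le_one x r :)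
    · rintro ⟨r, rfl⟩
      exact IsDiscreteValuationRing.exists_lift_of_le_one (hv.symm ▸ placeVal_le_one y r :)
  choose e he using fun r => (Set.ext_iff.1 hr _).1 ⟨r, rfl⟩
  let e' : X.presheaf.stalk x.pt →+* X.presheaf.stalk y.pt :=
    { toFun := e
      map_one' := IsFractionRing.injective _ X.functionField (by rw [he, map_one, map_one])
      map_zero' := IsFractionRing.injective _ X.functionField (by rw [he, map_zero, map_zero])
      map_add' := fun a b => IsFractionRing.injective _ X.functionField (by rw [he, map_add, map_add, he, he])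
      map_mul' := fun a b => IsFractionRing.injective _ X.functionField (by rw [he, map_mul, map_mul, he, he]) }
  have hloc : IsLocalHom e' := ⟨fun r hr' => by
    obtain ⟨s, hs⟩ := (Set.ext_iff.1 hr _).2 ⟨(hr'.unit⁻¹ : (X.presheaf.stalk y.pt)ˣ).1, rfl⟩
    refine IsUnit.of_mul_eq_one s (IsFractionRing.injective _ X.functionField ?_)
    rw [map_mul, hs, ← he r, ← map_mul, map_one]
    exact (congrArg _ hr'.mul_val_inv).trans (map_one _)⟩
  let E : Spec (X.presheaf.stalk y.pt) ⟶ Spec (X.presheaf.stalk x.pt) := Spec.map (CommRingCat.ofHom e')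
  let ι := Spec.map (X.presheaf.stalkSpecializes (genericPoint_specializes y.pt))
  haveI : IsDominant ι := ⟨(PrimeSpectrum.denseRange_comap_iff_ker_le_nilRadical _).2
    (((RingHom.injective_iff_ker_eq_bot _).1 (IsFractionRing.injective (X.presheaf.stalk y.pt) X.functionField)).le.trans
      bot_le)⟩
  have he' : E ≫ X.fromSpecStalk x.pt = X.fromSpecStalk y.pt := by
    refine ext_of_isDominant ι ?_
    have hcomp : ι ≫ E = Spec.map (X.presheaf.stalkSpecializes (genericPoint_specializes x.pt)) := by
      rw [← Spec.map_comp]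
      congr 1
      exact CommRingCat.hom_ext (RingHom.ext fun r => he r)
    rw [← Category.assoc, hcomp, Scheme.SpecMap_stalkSpecializes_fromSpecStalk,
      Scheme.SpecMap_stalkSpecializes_fromSpecStalk]
  have hpt := congrArg (fun f => f.base (IsLocalRing.closedPoint (X.presheaf.stalk y.pt))) he'
  simp only [Scheme.fromSpecStalk_closedPoint] at hpt
  refine pt_injective ?_
  rw [← hpt, Scheme.Hom.comp_apply]
  show x.pt = X.fromSpecStalk x.pt (PrimeSpectrum.comap e' (IsLocalRing.closedPoint _))
  rw [IsLocalRing.comap_closedPoint e', Scheme.fromSpecStalk_closedPoint]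

/-- Approximation at finitely many rational points. -/
theorem approx (S : Finset (Pt c)) (a : Pt c → X.functionField) (N : Pt c → ℤ) :
    ∃ h : X.functionField, ∀ x ∈ S, h = a x ∨ N x ≤ x.ord (h - a x) := by
  classical
  letI := constAlg c
  obtain ⟨h, hh⟩ := Groth.Agent.H23FunFld.approximation (S.image (place c))
    (Function.extend (place c) a 0) (Function.extend (place c) (fun x => -N x) 0)
  refine ⟨h, fun x hx => or_iff_not_imp_left.2 fun hne => (le_ord_iff x (sub_ne_zero.2 hne) _).2 ?_⟩
  have := hh (place c x) (Finset.mem_image_of_mem _ hx)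
  rw [place_injective.extend_apply, place_injective.extend_apply] at this
  exact this

end Groth.Agent.H26LocSym
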