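import Groth.Agent.H26LocSym.Symbol

/-!
# Values of rational functions at rational points
-/

set_option autoImplicit false
set_option linter.style.haveILetI false

universe v u

open CategoryTheory AlgebraicGeometry TopologicalSpace WithZero
open LocSym (Pt constFun HasValueAt Cong1At Cong1)

namespace Groth.Agent.H26LocSym

variable {k : Type u} [Field k] {X : Scheme.{u}} {c : X ⟶ Spec (CommRingCat.of k)}
  [IsIntegral X] [Curve c] [IsAlgClosed k] {x : Pt c}

omit [IsIntegral X] [Curve c] [IsAlgClosed k] in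
lemma eval_const (x : Pt c) (a : k) :
    Scheme.stalkClosedPointTo x.1
        (X.presheaf.germ ⊤ _ trivial (c.appTop ((Scheme.ΓSpecIso (CommRingCat.of k)).inv a))) = a := by
  rw [← CommRingCat.comp_apply (X.presheaf.germ ⊤ _ trivial), Scheme.germ_stalkClosedPointTo]
  have h : c.appTop ≫ x.1.appTop = 𝟙 _ := by
    rw [← Scheme.Hom.comp_appTop, x.2, Scheme.Hom.id_appTop]
  have h' := congrArg (fun φ => φ ((Scheme.ΓSpecIso (CommRingCat.of k)).inv a)) h
  simp only [CommRingCat.comp_apply, CommRingCat.id_apply] at h'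
  change (Scheme.ΓSpecIso (CommRingCat.of k)).hom
    (((Spec (CommRingCat.of k)).presheaf.map _) (x.1.appTop (c.appTop ((Scheme.ΓSpecIso (CommRingCat.of k)).inv a)))) = a
  rw [h']
  simp

lemma hasValueAt_iff {g : X.functionField} {a : k} :
    HasValueAt x g a ↔ placeVal x (g - constFun c a) < 1 := by
  rcases eq_or_ne g (constFun c a) with rfl | hg
  · simp [HasValueAt]
  · rw [placeVal_eq x (sub_ne_zero.2 hg), ← exp_zero, exp_lt_exp]
    unfold HasValueAt
    constructor
    · intro h
      have := h.resolve_left hg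
      omega
    · intro h
      exact Or.inr (by omega)

lemma exists_value {g : X.functionField} (h : placeVal x g ≤ 1) : ∃ a, HasValueAt x g a := by
  haveI := isDVR_stalk x
  obtain ⟨r, rfl⟩ := IsDiscreteValuationRing.exists_lift_of_le_one h
  obtain ⟨a, hφa⟩ : ∃ a : k, a = Scheme.stalkClosedPointTo x.1 r := ⟨_, rfl⟩
  refine ⟨a, hasValueAt_iff.2 ?_⟩
  obtain ⟨s, hs⟩ := constFun_mem_range (c := c) a x.pt
  have hs' : s = X.presheaf.germ ⊤ _ trivial
      (c.appTop ((Scheme.ΓSpecIso (CommRingCat.of k)).inv a)) := by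
    refine IsFractionRing.injective (X.presheaf.stalk x.pt) X.functionField (hs.trans ?_)
    show _ = X.presheaf.stalkSpecializes (genericPoint_specializes x.pt) (X.presheaf.germ ⊤ x.pt trivial _)
    rw [← CommRingCat.comp_apply, TopCat.Presheaf.germ_stalkSpecializes]
    rfl
  have hφ : (Scheme.stalkClosedPointTo x.1).hom s = (Scheme.stalkClosedPointTo x.1).hom r :=
    ((congrArg _ hs').trans (eval_const x a)).trans hφa
  have hmem : r - s ∈ IsLocalRing.maximalIdeal (X.presheaf.stalk x.pt) := by
    rw [IsLocalRing.mem_maximalIdeal, mem_nonunits_iff]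
    intro hu
    have := hu.map (Scheme.stalkClosedPointTo x.1).hom
    rw [map_sub] at this
    exact this.ne_zero (sub_eq_zero.2 hφ.symm)
  rw [← hs, ← map_sub, placeVal, IsDedekindDomain.HeightOneSpectrum.valuation_of_algebraMap,
    IsDedekindDomain.HeightOneSpectrum.intValuation_lt_one_iff_mem]
  exact hmem

lemma placeVal_const_le (x : Pt c) (a : k) : placeVal x (constFun c a) ≤ 1 := by
  obtain ⟨r, hr⟩ := constFun_mem_range (c := c) a x.pt
  rw [← hr]
  exact placeVal_le_one x r

lemma placeVal_le_of_value {g : X.functionField} {a : k} (h : HasValueAt x g a) : placeVal x g ≤ 1 := by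
  rw [← sub_add_cancel g (constFun c a)]
  exact ((placeVal x).map_add _ _).trans (max_le (hasValueAt_iff.1 h).le (placeVal_const_le x a))

lemma value_unique {g : X.functionField} {a b : k} (ha : HasValueAt x g a) (hb : HasValueAt x g b) : a = b := by
  by_contra hne
  have hlt : placeVal x (constFun c (a - b)) < 1 := by
    rw [map_sub, show constFun c a - constFun c b = (g - constFun c b) - (g - constFun c a) by ring]
    exact ((placeVal x).map_sub _ _).trans_lt (max_lt (hasValueAt_iff.1 hb) (hasValueAt_iff.1 ha))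
  rw [placeVal_eq x (fun h => hne (sub_eq_zero.1 ((map_eq_zero _).1 h))), ord_const] at hlt
  simp at hlt

lemma hasValueAt_const (a : k) : HasValueAt x (constFun c a) a := Or.inl rfl

lemma hasValueAt_mul {g h : X.functionField} {a b : k} (ha : HasValueAt x g a) (hb : HasValueAt x h b) :
    HasValueAt x (g * h) (a * b) := by
  refine hasValueAt_iff.2 ?_
  rw [show g * h - constFun c (a * b) = (g - constFun c a) * h + constFun c a * (h - constFun c b) by
    rw [map_mul]; ring]
  refine ((placeVal x).map_add _ _).trans_lt (max_lt ?_ ?_)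
  · rw [map_mul]
    exact (mul_le_of_le_one_right zero_le (placeVal_le_of_value hb)).trans_lt (hasValueAt_iff.1 ha)
  · rw [map_mul]
    exact (mul_le_of_le_one_left zero_le (placeVal_const_le x a)).trans_lt (hasValueAt_iff.1 hb)

lemma ord_eq_zero_of_value {g : X.functionField} {a : k} (h : HasValueAt x g a) (ha : a ≠ 0) :
    g ≠ 0 ∧ x.ord g = 0 := by
  have h1 : placeVal x g = 1 := by
    have hc : placeVal x (constFun c a) = 1 := by
      rw [placeVal_eq x ((map_ne_zero _).2 ha), ord_const, neg_zero, exp_zero]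
    have := (placeVal x).map_add_eq_of_lt_left (x := constFun c a) (y := g - constFun c a)
      (hc ▸ hasValueAt_iff.1 h)
    rwa [add_sub_cancel, hc] at this
  refine ⟨fun h0 => by rw [h0, map_zero] at h1; exact zero_ne_one h1, ?_⟩
  rw [ord_eq, h1, log_one, neg_zero]

lemma hasValueAt_inv {g : X.functionField} {a : k} (h : HasValueAt x g a) (ha : a ≠ 0) :
    HasValueAt x g⁻¹ a⁻¹ := by
  obtain ⟨hg, ho⟩ := ord_eq_zero_of_value h ha
  refine hasValueAt_iff.2 ?_
  rw [show g⁻¹ - constFun c a⁻¹ = -((g - constFun c a) * (g⁻¹ * constFun c a⁻¹)) by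
    rw [map_inv₀]
    have := (map_ne_zero (constFun c)).2 ha
    field_simp
    ring, Valuation.map_neg, map_mul, map_mul, placeVal_eq x (inv_ne_zero hg), ord_inv, ho,
    placeVal_eq x ((map_ne_zero _).2 (inv_ne_zero ha)), ord_const]
  simpa using hasValueAt_iff.1 h

lemma exists_unit_value {g : X.functionField} (hg : g ≠ 0) (h : x.ord g = 0) :
    ∃ a : kˣ, HasValueAt x g (a : k) := by
  obtain ⟨a, ha⟩ := exists_value (x := x) (g := g) (by rw [placeVal_eq x hg, h, neg_zero, exp_zero])
  refine ⟨Units.mk0 a fun h0 => ?_, ha⟩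
  subst h0
  have := hasValueAt_iff.1 ha
  rw [map_zero, sub_zero, placeVal_eq x hg, h, neg_zero, exp_zero] at this
  exact lt_irrefl _ this

lemma cong1At_iff_value {m : Pt c →₀ ℕ} (hm : m x = 1) {g : X.functionField} :
    Cong1At m x g ↔ HasValueAt x g (1 : k) := by
  rw [cong1At_iff, hasValueAt_iff, map_one, hm, (placeVal x).map_sub_swap, Nat.cast_one]
  rcases eq_or_ne (g - 1) 0 with h | h
  · simp [h]
  · rw [placeVal_eq x h, exp_le_exp, ← exp_zero, exp_lt_exp]; omega

/-- A function with prescribed orders at finitely many points. -/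
lemma exists_ord (S : Finset (Pt c)) (n : Pt c → ℤ) :
    ∃ h : X.functionField, h ≠ 0 ∧ ∀ y ∈ S, y.ord h = n y := by
  classical
  rcases S.eq_empty_or_nonempty with rfl | ⟨y₀, hy₀⟩
  · exact ⟨1, one_ne_zero, by simp⟩
  choose p hp using fun y : Pt c => placeVal_surjective y (exp (-n y))
  have hp0 : ∀ y, p y ≠ 0 := fun y h => by
    have := hp y; rw [h, map_zero] at this; exact exp_ne_zero this.symm
  have hpn : ∀ y, y.ord (p y) = n y := fun y => by rw [ord_eq, hp, log_exp, neg_neg]
  obtain ⟨h, hh⟩ := approx S p (fun y => n y + 1)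
  have key : ∀ y ∈ S, h ≠ 0 ∧ y.ord h = n y := fun y hy => by
    rcases eq_or_ne h (p y) with e | hne
    · rw [e]; exact ⟨hp0 y, hpn y⟩
    · have h1 := (hh y hy).resolve_left hne
      obtain ⟨a, b⟩ := ord_add_of_lt y (hp0 y) (sub_ne_zero.2 hne) (by rw [hpn]; omega)
      rw [add_sub_cancel] at a b
      exact ⟨a, b.trans (hpn y)⟩
  exact ⟨h, (key y₀ hy₀).1, fun y hy => (key y hy).2⟩

/-- A function with prescribed nonzero values at finitely many points. -/
lemma exists_values (S : Finset (Pt c)) (v : Pt c → kˣ) :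
    ∃ h : X.functionField, h ≠ 0 ∧ ∀ y ∈ S, HasValueAt y h (v y : k) := by
  classical
  rcases S.eq_empty_or_nonempty with rfl | ⟨y₀, hy₀⟩
  · exact ⟨1, one_ne_zero, by simp⟩
  obtain ⟨h, hh⟩ := approx S (fun y => constFun c (v y : k)) (fun _ => 1)
  have key : ∀ y ∈ S, HasValueAt y h (v y : k) := fun y hy => (hh y hy).imp id fun h1 => by omega
  exact ⟨h, (ord_eq_zero_of_value (key y₀ hy₀) (v y₀).ne_zero).1, key⟩

end Groth.Agent.H26LocSym
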