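import Groth.Agent.H26LocSym.Values
import Groth.Prelude.Def_W4c1etcurveeff2PicMod

/-!
# The generalised Picard group of a reduced modulus
-/

set_option autoImplicit false
set_option linter.style.haveILetI false

universe u

open CategoryTheory AlgebraicGeometry TopologicalSpace WithZero W4c1etcurveeff2
open LocSym (Pt constFun HasValueAt Cong1At Cong1)

namespace Groth.Agent.H26LocSym

variable {k : Type u} [Field k] {X : Scheme.{u}} {c : X ⟶ Spec (CommRingCat.of k)}
  [IsIntegral X] [Curve c] [IsAlgClosed k] {m : Pt c →₀ ℕ}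

variable (c) in
lemma exists_isDivOf {g : X.functionField} (hg : g ≠ 0) : ∃ D : Pt c →₀ ℤ, IsDivOf c D g :=
  ⟨Finsupp.ofSupportFinite (fun x => x.ord g) (finite_ord_ne_zero g), hg, fun _ => rfl⟩

lemma IsDivOf.eq {D D' : Pt c →₀ ℤ} {g : X.functionField} (h : IsDivOf c D g) (h' : IsDivOf c D' g) : D = D' :=
  Finsupp.ext fun x => (h.2 x).trans (h'.2 x).symm

lemma isDivOf_mul {D D' : Pt c →₀ ℤ} {g g' : X.functionField} (h : IsDivOf c D g) (h' : IsDivOf c D' g') :
    IsDivOf c (D + D') (g * g') :=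
  ⟨mul_ne_zero h.1 h'.1, fun x => by rw [Finsupp.add_apply, h.2, h'.2, ord_mul x h.1 h'.1]⟩

lemma isDivOf_inv {D : Pt c →₀ ℤ} {g : X.functionField} (h : IsDivOf c D g) : IsDivOf c (-D) g⁻¹ :=
  ⟨inv_ne_zero h.1, fun x => by rw [Finsupp.neg_apply, h.2, ord_inv]⟩

lemma isDivOf_one : IsDivOf c (0 : Pt c →₀ ℤ) (1 : X.functionField) :=
  ⟨one_ne_zero, fun x => by rw [ord_one]; rfl⟩

lemma mem_principal {D : Pt c →₀ ℤ} : D ∈ principal c ↔ ∃ g, IsDivOf c D g := by
  refine ⟨fun h => ?_, fun h => AddSubgroup.subset_closure h⟩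
  induction h using AddSubgroup.closure_induction with
  | mem D h => exact h
  | zero => exact ⟨1, isDivOf_one⟩
  | add D E _ _ h h' =>
    obtain ⟨g, hg⟩ := h
    obtain ⟨g', hg'⟩ := h'
    exact ⟨_, isDivOf_mul hg hg'⟩
  | neg D _ h =>
    obtain ⟨g, hg⟩ := h
    exact ⟨_, isDivOf_inv hg⟩

variable (hm : ∀ x : Pt c, m x ≤ 1)

include hm in
lemma cong1_iff_value {g : X.functionField} : Cong1 m g ↔ ∀ x ∈ m.support, HasValueAt x g (1 : k) :=
  forall₂_congr fun x hx => cong1At_iff_value (by
    have := hm x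
    have := Finsupp.mem_support_iff.1 hx
    omega)

include hm in
lemma mem_principalMod {D : divAway c m} :
    D ∈ principalMod c m ↔ ∃ g, IsDivOf c (D : Pt c →₀ ℤ) g ∧ ∀ x ∈ m.support, HasValueAt x g (1 : k) := by
  simp only [← cong1_iff_value hm]
  refine ⟨fun h => ?_, fun h => AddSubgroup.subset_closure h⟩
  induction h using AddSubgroup.closure_induction with
  | mem D h => exact h
  | zero => exact ⟨1, isDivOf_one, fun x _ => cong1At_one⟩
  | add D E _ _ h h' =>
    obtain ⟨g, hg, hc⟩ := h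
    obtain ⟨g', hg', hc'⟩ := h'
    exact ⟨_, isDivOf_mul hg hg', fun x hx => cong1At_mul hx (hc x hx) (hc' x hx)⟩
  | neg D _ h =>
    obtain ⟨g, hg, hc⟩ := h
    exact ⟨_, isDivOf_inv hg, fun x hx => cong1At_inv hx (hc x hx)⟩

theorem picModToPic_surjective : Function.Surjective (picModToPic c m) := fun y => by
  obtain ⟨D, rfl⟩ := QuotientAddGroup.mk_surjective y
  obtain ⟨h, hh, hord⟩ := exists_ord m.support (fun x => -D x)
  obtain ⟨E, hE⟩ := exists_isDivOf c hh
  refine ⟨QuotientAddGroup.mk (⟨D + E, fun x hx => by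
    rw [Finsupp.add_apply, hE.2, hord x hx, add_neg_cancel]⟩ : divAway c m), ?_⟩
  refine QuotientAddGroup.eq.2 (mem_principal.2 ⟨h⁻¹, ?_⟩)
  simpa using isDivOf_inv hE

include hm in
theorem picModToPic_eq_zero_iff (y : PicMod c m) :
    picModToPic c m y = 0 ↔ ∃ (g : X.functionField) (D : divAway c m) (v : Pt c → kˣ),
      IsDivOf c (D : Pt c →₀ ℤ) g ∧ (∀ x ∈ m.support, HasValueAt x g (v x : k)) ∧
      y = (QuotientAddGroup.mk D : PicMod c m) := by
  classical
  obtain ⟨D, rfl⟩ := QuotientAddGroup.mk_surjective y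
  constructor
  · intro h
    obtain ⟨g, hg⟩ := mem_principal.1 ((QuotientAddGroup.eq_zero_iff _).1 h)
    have hv : ∀ x, ∃ a : kˣ, x ∈ m.support → HasValueAt x g (a : k) := fun x => by
      by_cases hx : x ∈ m.support
      · obtain ⟨a, ha⟩ := exists_unit_value (x := x) hg.1 ((hg.2 x).symm.trans (D.2 x hx))
        exact ⟨a, fun _ => ha⟩
      · exact ⟨1, fun h => absurd h hx⟩
    choose v hv using hv
    exact ⟨g, D, v, hg, hv, rfl⟩
  · rintro ⟨g, D', v, hg, -, h⟩
    rw [h]
    exact (QuotientAddGroup.eq_zero_iff _).2 (mem_principal.2 ⟨g, hg⟩)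

/-- Two functions with the same values give the same class. -/
lemma mk_eq_mk_of_values (hm : ∀ x : Pt c, m x ≤ 1) {g g' : X.functionField} {D D' : divAway c m}
    (hg : IsDivOf c (D : Pt c →₀ ℤ) g) (hg' : IsDivOf c (D' : Pt c →₀ ℤ) g') {v : Pt c → kˣ}
    (hv : ∀ x ∈ m.support, HasValueAt x g (v x : k)) (hv' : ∀ x ∈ m.support, HasValueAt x g' (v x : k)) :
    (QuotientAddGroup.mk D : PicMod c m) = QuotientAddGroup.mk D' := by
  refine QuotientAddGroup.eq.2 ((mem_principalMod hm).2 ⟨g⁻¹ * g', isDivOf_mul (isDivOf_inv hg) hg', fun x hx => ?_⟩)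
  have := hasValueAt_mul (hasValueAt_inv (hv x hx) (v x).ne_zero) (hv' x hx)
  rwa [inv_mul_cancel₀ (v x).ne_zero] at this

lemma exists_divAway_values (v : Pt c → kˣ) :
    ∃ (g : X.functionField) (D : divAway c m),
      IsDivOf c (D : Pt c →₀ ℤ) g ∧ ∀ x ∈ m.support, HasValueAt x g (v x : k) := by
  obtain ⟨g, hg, hv⟩ := exists_values m.support v
  obtain ⟨D, hD⟩ := exists_isDivOf c hg
  exact ⟨g, ⟨D, fun x hx => by rw [hD.2, (ord_eq_zero_of_value (hv x hx) (v x).ne_zero).2]⟩, hD, hv⟩

/-- The class of the divisor of a function with prescribed values. -/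
noncomputable def valClass (v : Pt c → kˣ) : PicMod c m :=
  QuotientAddGroup.mk (exists_divAway_values (m := m) v).choose_spec.choose

include hm in
lemma valClass_eq (v : Pt c → kˣ) {g : X.functionField} {D : divAway c m}
    (hg : IsDivOf c (D : Pt c →₀ ℤ) g) (hv : ∀ x ∈ m.support, HasValueAt x g (v x : k)) :
    valClass v = (QuotientAddGroup.mk D : PicMod c m) :=
  mk_eq_mk_of_values hm (exists_divAway_values (m := m) v).choose_spec.choose_spec.1 hg
    (exists_divAway_values (m := m) v).choose_spec.choose_spec.2 hv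

include hm in
lemma valClass_mul (v w : Pt c → kˣ) : valClass (m := m) (v * w) = valClass v + valClass w := by
  obtain ⟨g, D, hg, hv⟩ := exists_divAway_values (m := m) v
  obtain ⟨g', D', hg', hw⟩ := exists_divAway_values (m := m) w
  rw [valClass_eq hm v hg hv, valClass_eq hm w hg' hw,
    valClass_eq hm (v * w) (g := g * g') (D := D + D') (isDivOf_mul hg hg') fun x hx => by
      rw [Pi.mul_apply, Units.val_mul]; exact hasValueAt_mul (hv x hx) (hw x hx)]
  rfl

include hm in
lemma valClass_one : valClass (m := m) (1 : Pt c → kˣ) = 0 :=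
  valClass_eq hm 1 (D := 0) isDivOf_one fun x _ => by
    rw [Pi.one_apply, Units.val_one, ← map_one (constFun c)]; exact hasValueAt_const 1

include hm in
lemma valClass_pow (v : Pt c → kˣ) (n : ℕ) : valClass (m := m) (v ^ n) = n • valClass v := by
  induction n with
  | zero => rw [pow_zero, zero_nsmul, valClass_one hm]
  | succ n ih => rw [pow_succ, valClass_mul hm, ih, succ_nsmul]

include hm in
lemma valClass_eq_zero_iff (v : Pt c → kˣ) :
    valClass (m := m) v = 0 ↔ ∃ a : kˣ, ∀ x ∈ m.support, v x = a := by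
  obtain ⟨g, D, hg, hv⟩ := exists_divAway_values (m := m) v
  rw [valClass_eq hm v hg hv, QuotientAddGroup.eq_zero_iff, mem_principalMod hm]
  constructor
  · rintro ⟨g', hg', h1⟩
    obtain ⟨b, hb⟩ := exists_const_of_ord_nonneg (c := c) (g := g / g') (fun x => by
      rw [ord_div x hg.1 hg'.1, ← hg.2, ← hg'.2, sub_self])
    have hb0 : b ≠ 0 := fun h0 => by
      rw [h0, map_zero, div_eq_zero_iff] at hb
      exact hb.elim hg.1 hg'.1
    refine ⟨Units.mk0 b hb0, fun x hx => Units.ext ?_⟩
    have h2 := hasValueAt_mul (hv x hx) (hasValueAt_inv (h1 x hx) one_ne_zero)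
    rw [← div_eq_mul_inv, hb, inv_one, mul_one] at h2
    exact (value_unique (hasValueAt_const b) h2).symm
  · rintro ⟨a, ha⟩
    have hc : constFun c (a : k) ≠ 0 := (map_ne_zero _).2 a.ne_zero
    refine ⟨g * (constFun c (a : k))⁻¹, ⟨mul_ne_zero hg.1 (inv_ne_zero hc), fun x => ?_⟩, fun x hx => ?_⟩
    · rw [ord_mul x hg.1 (inv_ne_zero hc), ord_inv, ord_const, hg.2]; ring
    · have := hasValueAt_mul (hv x hx) (hasValueAt_inv (hasValueAt_const (x := x) (a : k)) a.ne_zero)
      rwa [ha x hx, mul_inv_cancel₀ a.ne_zero] at this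

include hm in
lemma exists_valClass_eq (y : PicMod c m) (hy : picModToPic c m y = 0) : ∃ v, valClass v = y := by
  obtain ⟨g, D, v, hg, hv, rfl⟩ := (picModToPic_eq_zero_iff hm y).1 hy
  exact ⟨v, valClass_eq hm v hg hv⟩

include hm in
lemma picModToPic_valClass (v : Pt c → kˣ) : picModToPic c m (valClass v) = 0 := by
  obtain ⟨g, D, hg, hv⟩ := exists_divAway_values (m := m) v
  exact (picModToPic_eq_zero_iff hm _).2 ⟨g, D, v, hg, hv, valClass_eq hm v hg hv⟩

lemma exists_root (n : ℕ) (hn : 0 < n) (a : kˣ) : ∃ b : kˣ, b ^ n = a := by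
  obtain ⟨b, hb⟩ := IsAlgClosed.exists_pow_nat_eq (a : k) hn
  exact ⟨Units.mk0 b (fun h => a.ne_zero (by rw [← hb, h, zero_pow hn.ne'])), Units.ext hb⟩

include hm in
theorem exists_torsion_lift {n : ℕ} (hn : 1 ≤ n) (y : Pic c) (hy : n • y = 0) :
    ∃ x : PicMod c m, n • x = 0 ∧ picModToPic c m x = y := by
  obtain ⟨x, rfl⟩ := picModToPic_surjective (m := m) y
  obtain ⟨v, hv⟩ := exists_valClass_eq hm (n • x) (by rw [map_nsmul, hy])
  choose w hw using fun p : Pt c => exists_root n hn (v p)
  refine ⟨x - valClass w, ?_, by rw [map_sub, picModToPic_valClass hm, sub_zero]⟩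
  rw [nsmul_sub, ← hv, ← valClass_pow hm, show w ^ n = v from funext hw, sub_self]

include hm in
theorem card_torsion_ker {n : ℕ} (hn : 1 ≤ n) (hnk : (n : k) ≠ 0) :
    Nat.card {x : PicMod c m // n • x = 0 ∧ picModToPic c m x = 0} = n ^ (m.support.card - 1) := by
  classical
  haveI : NeZero n := ⟨by omega⟩
  haveI : NeZero (n : k) := ⟨hnk⟩
  obtain ⟨S', x₀, hS'⟩ : ∃ (S' : Finset (Pt c)) (x₀ : Option (Pt c)),
      (x₀ = none ∧ m.support = ∅ ∧ S' = ∅) ∨ (∃ x, x₀ = some x ∧ x ∈ m.support ∧ S' = m.support.erase x) := by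
    rcases m.support.eq_empty_or_nonempty with h | ⟨x, hx⟩
    · exact ⟨∅, none, Or.inl ⟨rfl, h, rfl⟩⟩
    · exact ⟨_, some x, Or.inr ⟨x, rfl, hx, rfl⟩⟩
  have hcard : S'.card = m.support.card - 1 := by
    rcases hS' with ⟨-, h, rfl⟩ | ⟨x, -, hx, rfl⟩
    · simp [h]
    · exact Finset.card_erase_of_mem hx
  have hsub : S' ⊆ m.support := by
    rcases hS' with ⟨-, h, rfl⟩ | ⟨x, -, hx, rfl⟩
    · exact Finset.empty_subset _
    · exact Finset.erase_subset _ _
  let ext' : (S' → rootsOfUnity n k) → Pt c → kˣ := fun z p => if h : p ∈ S' then (z ⟨p, h⟩ : kˣ) else 1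
  have hpow : ∀ z, ext' z ^ n = 1 := fun z => funext fun p => by
    simp only [Pi.pow_apply, ext', Pi.one_apply]
    split_ifs with h
    · exact (mem_rootsOfUnity n _).1 (z ⟨p, h⟩).2
    · exact one_pow n
  let Φ : (S' → rootsOfUnity n k) → {x : PicMod c m // n • x = 0 ∧ picModToPic c m x = 0} := fun z =>
    ⟨valClass (ext' z), by rw [← valClass_pow hm, hpow, valClass_one hm], picModToPic_valClass hm _⟩
  have hbij : Function.Bijective Φ := by
    constructor
    · intro z z' h
      have h' : valClass (m := m) (ext' z) = valClass (ext' z') := congrArg Subtype.val h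
      have hd : valClass (m := m) (ext' z / ext' z') = 0 := by
        have := valClass_mul hm (m := m) (ext' z / ext' z') (ext' z')
        rw [div_mul_cancel, h'] at this
        exact add_eq_right.1 this.symm
      obtain ⟨a, ha⟩ := (valClass_eq_zero_iff hm _).1 hd
      funext p
      rcases hS' with ⟨-, -, rfl⟩ | ⟨x, -, hx, rfl⟩
      · exact absurd p.2 (Finset.notMem_empty _)
      · have hxS : x ∉ m.support.erase x := Finset.notMem_erase _ _
        have h1 := ha x hx
        simp only [Pi.div_apply, ext', dif_neg hxS, div_one] at h1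
        have h2 := ha p.1 (Finset.erase_subset _ _ p.2)
        simp only [Pi.div_apply, ext', dif_pos p.2, ← h1, div_eq_one] at h2
        exact Subtype.ext h2
    · rintro ⟨y, hy, hy'⟩
      obtain ⟨v, rfl⟩ := exists_valClass_eq hm y hy'
      rw [← valClass_pow hm, valClass_eq_zero_iff hm] at hy
      obtain ⟨a, ha⟩ := hy
      rcases hS' with ⟨-, hs, rfl⟩ | ⟨x, -, hx, rfl⟩
      · refine ⟨fun p => absurd p.2 (Finset.notMem_empty _), Subtype.ext ?_⟩
        show valClass _ = valClass v
        have h0 : valClass (m := m) v = 0 := (valClass_eq_zero_iff hm v).2 ⟨1, by simp [hs]⟩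
        rw [h0, valClass_eq_zero_iff hm]
        exact ⟨1, by simp [hs]⟩
      · refine ⟨fun p => ⟨v p.1 / v x, ?_⟩, Subtype.ext ?_⟩
        · have h1 := ha p.1 (Finset.erase_subset _ _ p.2)
          have h2 := ha x hx
          simp only [Pi.pow_apply] at h1 h2
          rw [mem_rootsOfUnity, div_pow, h1, h2, div_self']
        · show valClass _ = valClass v
          obtain ⟨g, D, hg, hv⟩ := exists_divAway_values (m := m) v
          have hz : ∀ p ∈ m.support, ext' (fun p : (m.support.erase x : Finset _) => (⟨v p.1 / v x, by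
              have h1 := ha p.1 (Finset.erase_subset _ _ p.2)
              have h2 := ha x hx
              simp only [Pi.pow_apply] at h1 h2
              rw [mem_rootsOfUnity, div_pow, h1, h2, div_self']⟩ : rootsOfUnity n k)) p = v p / v x := fun p hp => by
            simp only [ext']
            split_ifs with h
            · rfl
            · have : p = x := by_contra fun hne => h (Finset.mem_erase.2 ⟨hne, hp⟩)
              rw [this, div_self']
          refine (sub_eq_zero.1 ?_).symm
          have h3 : ∀ w : Pt c → kˣ, valClass (m := m) v - valClass w = valClass (v / w) := fun w => by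
            rw [sub_eq_iff_eq_add, ← valClass_mul hm, div_mul_cancel]
          rw [h3, valClass_eq_zero_iff hm]
          exact ⟨v x, fun p hp => by rw [Pi.div_apply, hz p hp, div_div_cancel]⟩
  rw [← Nat.card_congr (Equiv.ofBijective Φ hbij), Nat.card_fun, HasEnoughRootsOfUnity.natCard_rootsOfUnity k n,
    Nat.card_eq_fintype_card, Fintype.card_coe, hcard]

end Groth.Agent.H26LocSym
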