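import Groth.Agent.H26LocSym.Basic

/-!
# Moduli and local symbols
-/

set_option autoImplicit false
set_option linter.style.haveILetI false

universe v u

open CategoryTheory AlgebraicGeometry TopologicalSpace WithZero
open LocSym (Pt constFun Cong1At Cong1 evalDiv evalZeros evalPoles IsModulus IsLocalSymbol)

namespace Groth.Agent.H26LocSym

variable {k : Type u} [Field k] {X : Scheme.{u}} {c : X ⟶ Spec (CommRingCat.of k)}
  [IsIntegral X] [Curve c] [IsAlgClosed k] {G : Type v} [CommGroup G]

variable {m : Pt c →₀ ℕ} {x : Pt c}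

lemma cong1At_iff {g : X.functionField} : Cong1At m x g ↔ placeVal x (1 - g) ≤ exp (-(m x : ℤ)) := by
  rcases eq_or_ne g 1 with rfl | hg
  · simp [Cong1At]
  · rw [← le_ord_iff x (sub_ne_zero.2 hg.symm)]
    exact or_iff_right hg

lemma placeVal_eq_one_of_cong (hm : x ∈ m.support) {g : X.functionField} (h : Cong1At m x g) :
    placeVal x g = 1 := by
  have hm' : 1 ≤ m x := Nat.one_le_iff_ne_zero.2 (Finsupp.mem_support_iff.1 hm)
  have h1 : placeVal x (1 - g) < 1 := (cong1At_iff.1 h).trans_lt (by rw [← exp_zero, exp_lt_exp]; omega)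
  have := (placeVal x).map_sub_eq_of_lt_left (x := (1 : X.functionField)) (y := 1 - g) (by rwa [map_one])
  rwa [sub_sub_cancel, map_one] at this

lemma ne_zero_of_cong (hm : x ∈ m.support) {g : X.functionField} (h : Cong1At m x g) : g ≠ 0 := by
  intro h0
  have := placeVal_eq_one_of_cong hm h
  rw [h0, map_zero] at this
  exact zero_ne_one this

lemma ord_eq_zero_of_cong (hm : x ∈ m.support) {g : X.functionField} (h : Cong1At m x g) : x.ord g = 0 := by
  rw [ord_eq, placeVal_eq_one_of_cong hm h, log_one, neg_zero]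

lemma cong1At_one : Cong1At m x (1 : X.functionField) := Or.inl rfl

lemma cong1At_mul (hm : x ∈ m.support) {g h : X.functionField} (hg : Cong1At m x g) (hh : Cong1At m x h) :
    Cong1At m x (g * h) := by
  rw [cong1At_iff, show 1 - g * h = (1 - g) + g * (1 - h) by ring]
  refine ((placeVal x).map_add _ _).trans (max_le (cong1At_iff.1 hg) ?_)
  rw [map_mul, placeVal_eq_one_of_cong hm hg, one_mul]
  exact cong1At_iff.1 hh

lemma cong1At_inv (hm : x ∈ m.support) {g : X.functionField} (hg : Cong1At m x g) : Cong1At m x g⁻¹ := by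
  have h0 := ne_zero_of_cong hm hg
  rw [cong1At_iff, show 1 - g⁻¹ = -((1 - g) * g⁻¹) by field_simp; ring, Valuation.map_neg, map_mul, map_inv₀,
    placeVal_eq_one_of_cong hm hg, inv_one, mul_one]
  exact cong1At_iff.1 hg

lemma cong1At_div (hm : x ∈ m.support) {g h : X.functionField} (hg : Cong1At m x g) (hh : Cong1At m x h) :
    Cong1At m x (g / h) := by
  rw [div_eq_mul_inv]; exact cong1At_mul hm hg (cong1At_inv hm hh)

lemma cong1At_prod (hm : x ∈ m.support) {ι : Type*} (s : Finset ι) (g : ι → X.functionField)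
    (h : ∀ i ∈ s, Cong1At m x (g i)) : Cong1At m x (∏ i ∈ s, g i) :=
  Finset.prod_induction g (Cong1At m x) (fun _ _ => cong1At_mul hm) cong1At_one h

/-! ### Values on divisors -/

open Classical in
lemma finite_evalDiv_support (m : Pt c →₀ ℕ) (f : Pt c → G) (g : X.functionField) :
    (Function.mulSupport fun y : Pt c => if y ∈ m.support then (1 : G) else f y ^ y.ord g).Finite :=
  (finite_ord_ne_zero g).subset fun y hy => fun h0 => hy (by simp [h0])

open Classical in
lemma evalDiv_mul (f : Pt c → G) {g h : X.functionField} (hg : g ≠ 0) (hh : h ≠ 0) :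
    evalDiv m f (g * h) = evalDiv m f g * evalDiv m f h := by
  rw [evalDiv, evalDiv, evalDiv, ← finprod_mul_distrib (finite_evalDiv_support m f g) (finite_evalDiv_support m f h)]
  refine finprod_congr fun y => ?_
  split_ifs
  · rw [one_mul]
  · rw [ord_mul y hg hh, zpow_add]

lemma evalDiv_one (f : Pt c → G) : evalDiv m f (1 : X.functionField) = 1 := by
  classical
  rw [evalDiv]
  exact finprod_eq_one_of_forall_eq_one fun y => by simp [ord_one]

lemma evalDiv_prod (f : Pt c → G) {ι : Type*} (s : Finset ι) (g : ι → X.functionField)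
    (h : ∀ i ∈ s, g i ≠ 0) : evalDiv m f (∏ i ∈ s, g i) = ∏ i ∈ s, evalDiv m f (g i) := by
  classical
  induction s using Finset.induction_on with
  | empty => simp [evalDiv_one]
  | insert i s hi ih =>
    rw [Finset.prod_insert hi, Finset.prod_insert hi, evalDiv_mul f (h i (Finset.mem_insert_self _ _))
      (Finset.prod_ne_zero_iff.2 fun j hj => h j (Finset.mem_insert_of_mem hj)),
      ih fun j hj => h j (Finset.mem_insert_of_mem hj)]

/-- `h` is `g` near `x` and `1` near the other points of the modulus. -/
structure Adapted (m : Pt c →₀ ℕ) (x : Pt c) (g h : X.functionField) : Prop where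
  ne : h ≠ 0
  near : Cong1At m x (h / g)
  away : ∀ y ∈ m.support, y ≠ x → Cong1At m y h

lemma exists_adapted (m : Pt c →₀ ℕ) (x : Pt c) {g : X.functionField} (hg : g ≠ 0) :
    ∃ h, Adapted m x g h := by
  classical
  obtain ⟨h, hh⟩ := approx (insert x m.support) (Function.update (fun _ => (1 : X.functionField)) x g)
    (fun y => if y = x then (m x : ℤ) + x.ord g + 1 else m y)
  have hx := hh x (Finset.mem_insert_self _ _)
  simp only [Function.update_self, if_true] at hx
  have hne : h ≠ 0 := by
    rintro rfl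
    rcases hx with h0 | h0
    · exact hg h0.symm
    · rw [zero_sub, ord_neg] at h0; omega
  refine ⟨h, hne, ?_, fun y hy hyx => ?_⟩
  · rcases hx with rfl | h0
    · exact Or.inl (div_self hg)
    · rcases eq_or_ne h g with rfl | hne'
      · exact Or.inl (div_self hg)
      · refine Or.inr ?_
        rw [show 1 - h / g = -((h - g) / g) by field_simp; ring, ord_neg, ord_div x (sub_ne_zero.2 hne') hg]
        omega
  · have := hh y (Finset.mem_insert_of_mem hy)
    simp only [Function.update_of_ne hyx, if_neg hyx] at this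
    rcases this with rfl | h0
    · exact cong1At_one
    · exact Or.inr (by rw [← ord_neg, neg_sub]; exact h0)

lemma evalDiv_eq_of_adapted {f : Pt c → G} (hf : IsModulus f m) (hx : x ∈ m.support) {g h h' : X.functionField}
    (hg : g ≠ 0) (h1 : Adapted m x g h) (h2 : Adapted m x g h') : evalDiv m f h = evalDiv m f h' := by
  have hne : h / h' ≠ 0 := div_ne_zero h1.ne h2.ne
  have := hf (h / h') hne fun y hy => by
    rcases eq_or_ne y x with rfl | hyx
    · have := cong1At_div hy h1.near h2.near
      rwa [div_div_div_cancel_right₀ hg] at this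
    · exact cong1At_div hy (h1.away y hy hyx) (h2.away y hy hyx)
  rw [← div_mul_cancel₀ h h2.ne, evalDiv_mul f hne h2.ne, this, one_mul]

lemma Adapted.mul (hx : x ∈ m.support) {g g' h h' : X.functionField} (h1 : Adapted m x g h)
    (h2 : Adapted m x g' h') : Adapted m x (g * g') (h * h') :=
  ⟨mul_ne_zero h1.ne h2.ne, by rw [mul_div_mul_comm]; exact cong1At_mul hx h1.near h2.near,
    fun y hy hyx => cong1At_mul hy (h1.away y hy hyx) (h2.away y hy hyx)⟩

open Classical in
lemma finprod_split {f : Pt c → G} {S : Finset (Pt c)} (a : Pt c → G) (g : X.functionField)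
    (ha : ∀ y ∉ S, a y = f y ^ y.ord g) :
    (Function.mulSupport a).Finite ∧
      ∏ᶠ y, a y = (∏ y ∈ S, a y) * ∏ᶠ y : Pt c, if y ∈ S then (1 : G) else f y ^ y.ord g := by
  have hfin : (Function.mulSupport fun y : Pt c => if y ∈ S then (1 : G) else f y ^ y.ord g).Finite :=
    (finite_ord_ne_zero g).subset fun y hy => fun h0 => hy (by simp [h0])
  have hS : (Function.mulSupport fun y => if y ∈ S then a y else 1).Finite :=
    S.finite_toSet.subset fun y hy => by_contra fun h => hy (if_neg h)
  have he : a = (fun y => if y ∈ S then a y else 1) * fun y => if y ∈ S then (1 : G) else f y ^ y.ord g := by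
    funext y
    by_cases hy : y ∈ S
    · simp [hy]
    · simp [hy, ha y hy]
  refine ⟨?_, ?_⟩
  · rw [he]
    exact (hS.union hfin).subset (Function.mulSupport_mul _ _)
  · conv_lhs => rw [he]
    simp only [Pi.mul_apply]
    rw [finprod_mul_distrib hS hfin]
    congr 1
    refine (finprod_eq_prod_of_mulSupport_subset _ fun y hy => ?_).trans
      (Finset.prod_congr rfl fun y hy => if_pos hy)
    exact by_contra fun h => hy (if_neg h)

theorem isLocalSymbol_unique {f : Pt c → G} {m n : Pt c →₀ ℕ} {σ τ : Pt c → (X.functionField)ˣ →* G}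
    (hσ : IsLocalSymbol f m σ) (hτ : IsLocalSymbol f n τ) : σ = τ := by
  classical
  let T := (m + n).support
  have hTm : m.support ⊆ T := fun y hy => by
    simp only [T, Finsupp.mem_support_iff, Finsupp.add_apply] at hy ⊢; omega
  have hTn : n.support ⊆ T := fun y hy => by
    simp only [T, Finsupp.mem_support_iff, Finsupp.add_apply] at hy ⊢; omega
  funext x
  by_cases hxT : x ∈ T
  swap
  · refine MonoidHom.ext fun g => ?_
    rw [hσ.eq_pow_of_notMem x (fun h => hxT (hTm h)), hτ.eq_pow_of_notMem x (fun h => hxT (hTn h))]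
  refine MonoidHom.ext fun g => ?_
  obtain ⟨h, hh⟩ := exists_adapted (m + n) x g.ne_zero
  let hu := Units.mk0 h hh.ne
  have key : ∀ (p : Pt c →₀ ℕ) (ρ : Pt c → (X.functionField)ˣ →* G), IsLocalSymbol f p ρ →
      (∀ y, p y ≤ (m + n) y) →
      ρ x g * (∏ᶠ y : Pt c, if y ∈ T then (1 : G) else f y ^ y.ord h) = 1 := by
    intro p ρ hρ hle
    have hpT : p.support ⊆ T := fun y hy => by
      have := hle y
      simp only [T, Finsupp.mem_support_iff] at hy ⊢; omega
    have hmono : ∀ (y : Pt c) (u : X.functionField), Cong1At (m + n) y u → Cong1At p y u := fun y u hu =>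
      cong1At_iff.2 ((cong1At_iff.1 hu).trans (exp_le_exp.2 (by have := hle y; omega)))
    have hone : ∀ y ∈ T, ∀ u : (X.functionField)ˣ, Cong1At (m + n) y (u : X.functionField) → ρ y u = 1 :=
      fun y hy u hu => by
        by_cases hyp : y ∈ p.support
        · exact hρ.eq_one_of_cong y hyp u (hmono y _ hu)
        · rw [hρ.eq_pow_of_notMem y hyp, ord_eq_zero_of_cong hy hu, zpow_zero]
    have h1 := (finprod_split (f := f) (S := T) (fun y => ρ y hu) h
      (fun y hy => hρ.eq_pow_of_notMem y (fun h' => hy (hpT h')) hu)).2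
    rw [hρ.finprod_eq_one hu, Finset.prod_eq_single x (fun y hy hyx => hone y hy hu (hh.away y hy hyx))
      (fun h' => absurd hxT h')] at h1
    have h2 : ρ x hu = ρ x g := by
      have := hone x hxT (hu / g) (by rw [Units.val_div_eq_div_val]; exact hh.near)
      rwa [map_div, div_eq_one] at this
    rw [← h2]
    exact h1.symm
  exact mul_right_cancel ((key m σ hσ fun y => by simp).trans (key n τ hτ fun y => by simp).symm)

theorem isModulus_of_isLocalSymbol {f : Pt c → G} {σ : Pt c → (X.functionField)ˣ →* G}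
    (hσ : IsLocalSymbol f m σ) : IsModulus f m := by
  classical
  intro g hg hc
  have h1 := (finprod_split (f := f) (S := m.support) (fun y => σ y (Units.mk0 g hg)) g
    (fun y hy => hσ.eq_pow_of_notMem y hy _)).2
  rw [hσ.finprod_eq_one, Finset.prod_eq_one fun y hy => hσ.eq_one_of_cong y hy _ (hc y hy), one_mul] at h1
  exact h1.symm

theorem exists_isLocalSymbol {f : Pt c → G} (hf : IsModulus f m) :
    ∃ σ : Pt c → (X.functionField)ˣ →* G, IsLocalSymbol f m σ := by
  classical
  choose H hH using fun (x : Pt c) (g : (X.functionField)ˣ) => exists_adapted m x g.ne_zero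
  let σ : Pt c → (X.functionField)ˣ →* G := fun x => MonoidHom.mk'
    (fun g => if x ∈ m.support then (evalDiv m f (H x g))⁻¹ else f x ^ x.ord (g : X.functionField))
    (fun g g' => by
      split_ifs with hx
      · rw [← mul_inv, ← evalDiv_mul f (hH x g).ne (hH x g').ne]
        refine congrArg _ (evalDiv_eq_of_adapted hf hx (g * g').ne_zero (hH x (g * g')) ?_)
        rw [Units.val_mul]
        exact (hH x g).mul hx (hH x g')
      · rw [Units.val_mul, ord_mul x g.ne_zero g'.ne_zero, zpow_add])
  have hσS : ∀ x ∈ m.support, ∀ g, σ x g = (evalDiv m f (H x g))⁻¹ := fun x hx g => if_pos hx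
  have hσo : ∀ x ∉ m.support, ∀ g : (X.functionField)ˣ, σ x g = f x ^ x.ord (g : X.functionField) :=
    fun x hx g => if_neg hx
  refine ⟨σ, fun x hx g hg => ?_, hσo, fun g => ?_, fun g => ?_⟩
  · rw [hσS x hx g, evalDiv_eq_of_adapted hf hx g.ne_zero (hH x g) (h' := 1)
      ⟨one_ne_zero, by rw [one_div]; exact cong1At_inv hx hg, fun _ _ _ => cong1At_one⟩, evalDiv_one, inv_one]
  · exact (finprod_split (f := f) (S := m.support) (fun x => σ x g) (g : X.functionField) (fun y hy => hσo y hy g)).1
  · rw [(finprod_split (f := f) (S := m.support) (fun x => σ x g) (g : X.functionField) (fun y hy => hσo y hy g)).2,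
      Finset.prod_congr rfl (fun x hx => hσS x hx g), Finset.prod_inv_distrib]
    change (∏ x ∈ m.support, evalDiv m f (H x g))⁻¹ * evalDiv m f (g : X.functionField) = 1
    have hne : (∏ x ∈ m.support, H x g) ≠ 0 := Finset.prod_ne_zero_iff.2 fun x _ => (hH x g).ne
    rw [← evalDiv_prod f _ _ fun x _ => (hH x g).ne, inv_mul_eq_one]
    have h1 := hf ((∏ x ∈ m.support, H x g) / (g : X.functionField)) (div_ne_zero hne g.ne_zero) fun y hy => by
      rw [← Finset.mul_prod_erase _ _ hy, mul_div_right_comm]
      exact cong1At_mul hy (hH y g).near (cong1At_prod hy _ _ fun x hx =>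
        (hH x g).away y hy (Finset.ne_of_mem_erase hx).symm)
    rw [← div_mul_cancel₀ (∏ x ∈ m.support, H x g) g.ne_zero, evalDiv_mul f (div_ne_zero hne g.ne_zero) g.ne_zero,
      h1, one_mul]

theorem isModulus_map {H : Type v} [CommGroup H] (θ : G →* H) {f : Pt c → G} (hf : IsModulus f m) :
    IsModulus (fun y => θ (f y)) m := by
  classical
  intro g hg hc
  have h := congrArg θ (hf g hg hc)
  rw [map_one, evalDiv, MonoidHom.map_finprod θ (finite_evalDiv_support m f g)] at h
  rw [evalDiv]
  refine (finprod_congr fun y => ?_).trans h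
  split_ifs <;> simp

theorem isLocalSymbol_map {H : Type v} [CommGroup H] (θ : G →* H) {f : Pt c → G}
    {σ : Pt c → (X.functionField)ˣ →* G} (hσ : IsLocalSymbol f m σ) :
    IsLocalSymbol (fun y => θ (f y)) m (fun y => θ.comp (σ y)) where
  eq_one_of_cong y hy g hg := by simp [hσ.eq_one_of_cong y hy g hg]
  eq_pow_of_notMem y hy g := by simp [hσ.eq_pow_of_notMem y hy g]
  mulSupport_finite g := (hσ.mulSupport_finite g).subset fun y hy h => hy (by simp [h])
  finprod_eq_one g := by
    simp only [MonoidHom.coe_comp, Function.comp_apply]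
    rw [← MonoidHom.map_finprod θ (hσ.mulSupport_finite g), hσ.finprod_eq_one, map_one]

/-! ### The criterion by zeros and poles -/

lemma evalDiv_eq_zeros_div_poles (f : Pt c → G) (g : X.functionField) :
    evalDiv m f g = evalZeros m f g / evalPoles m f g := by
  classical
  rw [evalDiv, evalZeros, evalPoles, ← finprod_div_distrib]
  · refine finprod_congr fun y => ?_
    split_ifs
    · rw [div_one]
    · rw [← zpow_natCast, ← zpow_natCast, div_eq_mul_inv, ← zpow_neg, ← zpow_add]
      congr 1
      omega
  · exact (finite_ord_ne_zero g).subset fun y hy h0 => hy (by simp [h0])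
  · exact (finite_ord_ne_zero g).subset fun y hy h0 => hy (by simp [h0])

/-- A rational function without poles is a constant. -/
lemma exists_const_of_ord_nonneg {g : X.functionField} (h : ∀ x : Pt c, 0 ≤ x.ord g) :
    ∃ a, g = constFun c a := by
  rcases eq_or_ne g 0 with rfl | hg
  · exact ⟨0, (map_zero _).symm⟩
  haveI := Curve.proper (c := c)
  haveI := isLocallyNoetherian c
  haveI : JacobsonSpace X := LocallyOfFiniteType.jacobsonSpace c
  have hloc : ∀ x : Pt c, ∃ (W : X.Opens) (hx : x.pt ∈ W) (t : Γ(X, W)),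
      X.presheaf.germ W (genericPoint X) ((genericPoint_specializes x.pt).mem_open W.2 hx) t = g := fun x => by
    haveI := isDVR_stalk x
    obtain ⟨r, hr⟩ := IsDiscreteValuationRing.exists_lift_of_le_one (A := X.presheaf.stalk x.pt) (x := g)
      (show placeVal x g ≤ 1 by rw [← exp_zero]; exact (le_ord_iff x hg 0).1 (h x))
    obtain ⟨W, hxW, t, rfl⟩ := X.presheaf.exists_germ_eq r
    refine ⟨W, hxW, t, ?_⟩
    rw [← hr]
    show _ = X.presheaf.stalkSpecializes (genericPoint_specializes x.pt) (X.presheaf.germ W x.pt hxW t)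
    rw [← CommRingCat.comp_apply, TopCat.Presheaf.germ_stalkSpecializes]
  choose W hxW t ht using hloc
  have hcov : (⊤ : X.Opens) ≤ iSup W := by
    intro z _
    by_contra hz
    obtain ⟨w, hwZ, hwc⟩ := nonempty_inter_closedPoints (X := X) (Z := (iSup W : X.Opens)ᶜ) ⟨z, hz⟩
      (iSup W).2.isClosed_compl.isLocallyClosed
    obtain ⟨x, rfl⟩ := exists_pt (c := c) hwc
    exact hwZ (Opens.mem_iSup.2 ⟨x, hxW x⟩)
  obtain ⟨s, hs, -⟩ := TopCat.Sheaf.existsUnique_gluing' X.sheaf W ⊤ (fun x => homOfLE le_top) hcov t fun x y => by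
    refine germ_injective_of_isIntegral X (genericPoint X)
      (show genericPoint X ∈ (W x ⊓ W y : X.Opens) from ⟨(genericPoint_specializes x.pt).mem_open (W x).2 (hxW x),
        (genericPoint_specializes y.pt).mem_open (W y).2 (hxW y)⟩) ?_
    exact ((X.presheaf.germ_res_apply' _ _ _ _).trans (ht x)).trans
        ((X.presheaf.germ_res_apply' _ _ _ _).trans (ht y)).symm
  obtain ⟨x⟩ : Nonempty (Pt c) := by
    obtain ⟨w, -, hwc⟩ := nonempty_inter_closedPoints (X := X) (Z := Set.univ) ⟨genericPoint X, trivial⟩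
      isClosed_univ.isLocallyClosed
    exact ⟨(exists_pt (c := c) hwc).choose⟩
  have hsg : X.presheaf.germ ⊤ (genericPoint X) trivial s = g := by
    rw [← ht x, ← hs x]
    exact (X.presheaf.germ_res_apply' _ _ _ _).symm
  letI := (isField_of_universallyClosed k c).toField
  let φ : k →+* Γ(X, ⊤) := c.appTop.hom.comp (Scheme.ΓSpecIso (CommRingCat.of k)).inv.hom
  have hfin : φ.Finite := RingHom.Finite.comp (finite_appTop_of_universallyClosed k c)
    (RingHom.Finite.of_surjective _ (Scheme.ΓSpecIso (CommRingCat.of k)).symm.commRingCatIsoToRingEquiv.surjective)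
  letI := φ.toAlgebra
  haveI : Module.Finite k Γ(X, ⊤) := hfin
  haveI : Algebra.IsIntegral k Γ(X, ⊤) := inferInstance
  obtain ⟨a, ha⟩ := (IsAlgClosed.algebraMap_bijective_of_isIntegral (k := k) (K := Γ(X, ⊤))).2 s
  refine ⟨a, ?_⟩
  rw [← hsg, ← ha]
  rfl

theorem isModulus_iff_zeros_poles (f : Pt c → G) :
    IsModulus f m ↔
      ∀ g : X.functionField, g ≠ 0 → (∃ x : Pt c, x.ord g < 0) →
        (∀ x ∈ m.support, (m x : ℤ) ≤ x.ord g) →
          ∀ a : k, a ≠ 0 → evalZeros m f (g - constFun c a) = evalPoles m f g := by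
  classical
  have hpoles : ∀ (g : X.functionField) (b : k), g ≠ 0 → b ≠ 0 →
      evalPoles m f (g - constFun c b) = evalPoles m f g := fun g b hg hb => by
    have hcb : constFun c b ≠ 0 := fun h => hb ((map_eq_zero _).1 h)
    unfold evalPoles
    refine finprod_congr fun y => ?_
    split_ifs with hy
    · rfl
    congr 1
    rcases lt_trichotomy (y.ord g) 0 with hlt | heq | hgt
    · obtain ⟨-, he⟩ := ord_add_of_lt y hg (neg_ne_zero.2 hcb) (by rw [ord_neg, ord_const]; exact hlt)
      rw [sub_eq_add_neg, he]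
    · have : 0 ≤ y.ord (g - constFun c b) := by
        rcases eq_or_ne (g - constFun c b) 0 with h0 | h0
        · rw [h0, ord_zero]
        · refine (le_ord_iff y h0 0).2 (((placeVal y).map_sub _ _).trans (max_le ?_ ?_))
          · exact (le_ord_iff y hg 0).1 heq.ge
          · exact (le_ord_iff y hcb 0).1 (ord_const y b).ge
      omega
    · obtain ⟨-, he⟩ := ord_add_of_lt y (neg_ne_zero.2 hcb) hg (by rw [ord_neg, ord_const]; exact hgt)
      rw [sub_eq_neg_add, he, ord_neg, ord_const]
      omega
  have hzneg : ∀ g : X.functionField, evalZeros m f (-g) = evalZeros m f g := fun g => by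
    unfold evalZeros
    exact finprod_congr fun y => by rw [ord_neg]
  have hpneg : ∀ g : X.functionField, evalPoles m f (-g) = evalPoles m f g := fun g => by
    unfold evalPoles
    exact finprod_congr fun y => by rw [ord_neg]
  constructor
  · intro hf g hg hpole hS a ha
    have hca : constFun c a ≠ 0 := fun h => ha ((map_eq_zero _).1 h)
    have hne : g - constFun c a ≠ 0 := fun h => by
      obtain ⟨x, hx⟩ := hpole
      rw [sub_eq_zero.1 h, ord_const] at hx
      exact lt_irrefl _ hx
    let g₁ := (g - constFun c a) * (-(constFun c a)⁻¹)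
    have hg₁ : g₁ ≠ 0 := mul_ne_zero hne (neg_ne_zero.2 (inv_ne_zero hca))
    have hord : ∀ y : Pt c, y.ord g₁ = y.ord (g - constFun c a) := fun y => by
      rw [ord_mul y hne (neg_ne_zero.2 (inv_ne_zero hca)), ord_neg, ord_inv, ord_const]; ring
    have h1 := hf g₁ hg₁ fun y hy => Or.inr (by
      rw [show 1 - g₁ = g * (constFun c a)⁻¹ by simp only [g₁]; field_simp; ring,
        ord_mul y hg (inv_ne_zero hca), ord_inv, ord_const, neg_zero, add_zero]
      exact hS y hy)
    have h2 : evalDiv m f (g - constFun c a) = 1 := by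
      rw [← h1]; unfold evalDiv; exact finprod_congr fun y => by rw [hord]
    rw [evalDiv_eq_zeros_div_poles, hpoles g a hg ha, div_eq_one] at h2
    exact h2
  · intro h g hg hc
    by_cases h1 : g = 1
    · rw [h1, evalDiv_one]
    by_cases hpole : ∃ x : Pt c, x.ord (1 - g) < 0
    · have hne : (1 - g) ≠ 0 := sub_ne_zero.2 (Ne.symm h1)
      have := h (1 - g) hne hpole (fun y hy => (hc y hy).resolve_left h1) 1 one_ne_zero
      rw [map_one, sub_sub_cancel_left, hzneg] at this
      have h3 : evalPoles m f (1 - g) = evalPoles m f g := by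
        have h4 := hpoles (1 - g) 1 hne one_ne_zero
        rw [map_one, sub_sub_cancel_left, hpneg] at h4
        exact h4.symm
      rw [evalDiv_eq_zeros_div_poles, this, h3, div_self']
    · push Not at hpole
      obtain ⟨b, hb⟩ := exists_const_of_ord_nonneg hpole
      have hg' : g = constFun c (1 - b) := by rw [map_sub, map_one, ← hb, sub_sub_cancel]
      rw [evalDiv]
      exact finprod_eq_one_of_forall_eq_one fun y => by rw [hg', ord_const, zpow_zero, ite_self]

end Groth.Agent.H26LocSym
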